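import Mathlib
import Cfsg.Agent.H80.Fpf.Mult
import Cfsg.Agent.H934.HeisSq

/-!
# Degrees of representations of groups containing a special group

`card_le_mul_sq` : an irreducible representation of a special group `P` nontrivial on the centre `Z` has
`|P| ≤ |Z| d ^ 2`.
`D0.exists_deg` : coordinates `D : D0 G V A` with all `D.z a`, `a ≠ 0`, conjugate in `G`, `3 ≤ |A|`: a representation of
`G` of degree `d` nontrivial on some `D.z a` has `|V| ≤ m ^ 2`, `2 m ≤ d` for some `m`.
-/

set_option autoImplicit false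
set_option linter.style.haveILetI false

namespace Cfsg.Agent.H966.Fpf.HeisDeg

open Cfsg.Agent.H80.Fpf Cfsg.Agent.H934.Heis Cfsg.Agent.H934.HeisSq

universe u v w

theorem card_le_mul_sq {P : Type u} [Group P] [Finite P] {Z : Subgroup P} (h : Hyp Z ⊤) {d : ℕ}
    (τ : Representation ℂ P (Fin d → ℂ)) (hτ : τ.IsIrreducible) {z : P} (hz : z ∈ Z) (hne : τ z ≠ 1) :
    Nat.card P ≤ Nat.card Z * d ^ 2 := by
  classical
  haveI : Fintype P := Fintype.ofFinite P
  haveI := hτ
  have hd : 0 < d := Cfsg.Agent.Blocks.CliffordCentral.pos_of_irreducible τ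
  haveI : Nonempty (Fin d) := ⟨⟨0, hd⟩⟩
  have hcen : ∀ y ∈ Z, y ∈ Subgroup.center P := fun y hy =>
    Subgroup.mem_center_iff.2 fun g => h.central y hy g
  obtain ⟨c, hc⟩ := Cfsg.Agent.Characters.CentralCharacter.exists_scalar_of_commute τ (τ z) (by
    intro g v
    have h1 : z * g = g * z := (h.central z hz g).symm
    rw [← Module.End.mul_apply, ← map_mul, h1, map_mul, Module.End.mul_apply])
  have hc1 : c ≠ 1 := by
    rintro rfl
    apply hne
    rw [hc, one_smul]
    rfl
  have hoff : ∀ x : P, x ∉ Z → τ.character x = 0 := by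
    intro x hx
    obtain ⟨y, -, hy⟩ := h.special x (Subgroup.mem_top x) hx z hz
    have h1 : y⁻¹ * x * y⁻¹⁻¹ = z * x := by
      have h2 : x * y = z * y * x := by rw [← hy]; group
      have h3 : z * y = y * z := (h.central z hz y).symm
      rw [inv_inv, mul_assoc, h2, h3]
      group
    have h2 : τ.character (z * x) = c * τ.character x := by
      have h3 : τ (z * x) = c • τ x := by
        rw [map_mul, hc]
        apply LinearMap.ext
        intro v
        simp
      show LinearMap.trace ℂ _ (τ (z * x)) = c * LinearMap.trace ℂ _ (τ x)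
      rw [h3, map_smul, smul_eq_mul]
    have h3 : τ.character (y⁻¹ * x * y⁻¹⁻¹) = τ.character x := Representation.char_conj _ _ _
    rw [h1, h2] at h3
    have h4 : (c - 1) * τ.character x = 0 := by rw [sub_mul, h3, one_mul, sub_self]
    rcases mul_eq_zero.1 h4 with h5 | h5
    · exact absurd (sub_eq_zero.1 h5) hc1
    · exact h5
  have hon : ∀ y ∈ Z, ‖τ.character y‖ = d := by
    intro y hy
    have h1 := norm_character_mul τ hτ (hcen y hy) 1
    rw [one_mul, Representation.char_one] at h1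
    rw [h1]
    simp
  have hsum := Cfsg.Agent.S0191.sum_norm_sq τ
  have h1 : ∑ x : P, ‖τ.character x‖ ^ 2 = ∑ x : P, if x ∈ Z then (d : ℝ) ^ 2 else 0 := by
    apply Finset.sum_congr rfl
    intro x _
    by_cases hx : x ∈ Z
    · rw [if_pos hx, hon x hx]
    · rw [if_neg hx, hoff x hx, norm_zero, zero_pow two_ne_zero]
  rw [h1, ← Finset.sum_filter, Finset.sum_const, nsmul_eq_mul] at hsum
  have h2 : (Finset.univ.filter fun x : P => x ∈ Z).card = Nat.card Z := by
    rw [Nat.card_eq_fintype_card, Fintype.card_subtype]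
  rw [h2] at hsum
  have h3 : Nat.card Z * d ^ 2 = Nat.card P := by exact_mod_cast hsum
  exact h3.ge

section Main

variable {G : Type u} [Group G] [Finite G] {V : Type v} {A : Type w} [AddCommGroup V] [AddCommGroup A] (D : D0 G V A)

/-- The bound for the degree. -/
theorem exists_deg [Finite A] (hA : 3 ≤ Nat.card A) {d : ℕ} (ρ : Representation ℂ G (Fin d → ℂ)) {a0 : A}
    (h0 : ρ (D.z a0) ≠ 1) (hconj : ∀ a b, a ≠ 0 → b ≠ 0 → IsConj (D.z a) (D.z b)) :
    ∃ m : ℕ, Nat.card V ≤ m ^ 2 ∧ 2 * m ≤ d := by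
  classical
  have ha0 : a0 ≠ 0 := by
    rintro rfl
    exact h0 (by rw [D.z_zero, map_one])
  haveI : Nontrivial A := ⟨a0, 0, ha0⟩
  let P : Subgroup G := D.Qg
  let ρP : Representation ℂ P (Fin d → ℂ) := ρ.comp P.subtype
  have hρP : ∀ g : P, ρP g = ρ (g : G) := fun g => rfl
  let z0 : P := ⟨D.z a0, D.z_mem_Qg a0⟩
  have hz0 : ρP z0 ≠ 1 := h0
  have hz0c : ∀ g : P, g * z0 = z0 * g := fun g => Subtype.ext (D.zQ_comm g.2 a0)
  let N : ℕ := Nat.card P
  have hN : N ≠ 0 := Nat.card_pos.ne'
  have hNz : z0 ^ N = 1 := pow_card_eq_one'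
  let s : Module.End ℂ (Fin d → ℂ) := ∑ i ∈ Finset.range N, ρP (z0 ^ i)
  let V' : Subrepresentation ρP :=
    ⟨LinearMap.ker s, by
      intro g v hv
      rw [LinearMap.mem_ker] at hv ⊢
      have h1 : s * ρP g = ρP g * s := by
        show (∑ i ∈ Finset.range N, ρP (z0 ^ i)) * ρP g = ρP g * ∑ i ∈ Finset.range N, ρP (z0 ^ i)
        rw [Finset.sum_mul, Finset.mul_sum]
        apply Finset.sum_congr rfl
        intro i _
        have hc : Commute z0 g := (hz0c g).symm
        rw [← map_mul, ← map_mul, (hc.pow_left i).eq]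
      have h2 : s (ρP g v) = ρP g (s v) := by
        rw [← Module.End.mul_apply, h1, Module.End.mul_apply]
      rw [h2, hv, map_zero]⟩
  have hV' : ∀ v : Fin d → ℂ, v ∈ V'.toSubmodule ↔ s v = 0 := fun v => LinearMap.mem_ker
  haveI : Nontrivial V'.toSubmodule := by
    obtain ⟨v, hv⟩ : ∃ v, ρP z0 v ≠ v := by
      by_contra hcon
      push Not at hcon
      exact hz0 (LinearMap.ext hcon)
    refine ⟨⟨ρP z0 v - v, (hV' _).2 ?_⟩, 0, fun h => hv (sub_eq_zero.1 (congrArg Subtype.val h))⟩
    have h1 : ∀ M : ℕ, (∑ i ∈ Finset.range M, ρP (z0 ^ i)) (ρP z0 v - v) = ρP (z0 ^ M) v - v := by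
      intro M
      induction M with
      | zero => simp
      | succ M ih =>
        rw [Finset.sum_range_succ, LinearMap.add_apply, ih, map_sub, ← Module.End.mul_apply, ← map_mul, ← pow_succ]
        abel
    have h2 := h1 N
    rw [hNz, map_one, Module.End.one_apply, sub_self] at h2
    exact h2
  obtain ⟨σ, hσ⟩ := Cfsg.Agent.S1492.exists_irreducible_sub V'.toRepresentation
  obtain ⟨m, τ, hτ, ⟨e⟩⟩ := Cfsg.Agent.S0184.exists_fin_model (V := σ.toSubmodule) σ.toRepresentation hσ
  haveI := hτ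
  have hm : 0 < m := Cfsg.Agent.Blocks.CliffordCentral.pos_of_irreducible τ
  haveI : Nonempty (Fin m) := ⟨⟨0, hm⟩⟩
  haveI : Nontrivial (Fin m → ℂ) := inferInstance
  have hcomm : ∀ (g : P) (v : σ.toSubmodule), e (σ.toRepresentation g v) = τ g (e v) := fun g v =>
    Representation.IntertwiningMap.isIntertwining _ _ e.toIntertwiningMap g v
  -- the underlying subspace
  let ι : σ.toSubmodule →ₗ[ℂ] (Fin d → ℂ) := V'.toSubmodule.subtype ∘ₗ σ.toSubmodule.subtype
  have hι : Function.Injective ι := (Submodule.injective_subtype _).comp (Submodule.injective_subtype _)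
  have hιg : ∀ (g : P) (v : σ.toSubmodule), ι (σ.toRepresentation g v) = ρ (g : G) (ι v) := fun g v => rfl
  have hτz : τ z0 ≠ 1 := by
    intro h1
    obtain ⟨v, hv⟩ := exists_ne (0 : Fin m → ℂ)
    obtain ⟨w, rfl⟩ := e.toLinearEquiv.surjective v
    have h2 : e (σ.toRepresentation z0 w) = e w := by
      rw [hcomm, h1]
      rfl
    have h3 : σ.toRepresentation z0 w = w := e.toLinearEquiv.injective h2
    have h4 : ρP z0 (ι w) = ι w := by
      have := hιg z0 w
      rw [h3] at this
      exact this.symm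
    have h5 : ∀ i : ℕ, ρP (z0 ^ i) (ι w) = ι w := by
      intro i
      induction i with
      | zero => rw [pow_zero, map_one]; rfl
      | succ i ih => rw [pow_succ, map_mul, Module.End.mul_apply, h4, ih]
    have h6 : s (ι w) = 0 := (hV' _).1 w.1.2
    have h7 : s (ι w) = (N : ℂ) • ι w := by
      show (∑ i ∈ Finset.range N, ρP (z0 ^ i)) (ι w) = _
      rw [LinearMap.sum_apply, Finset.sum_congr rfl fun i _ => h5 i, Finset.sum_const, Finset.card_range]
      exact (Nat.cast_smul_eq_nsmul ℂ N (ι w)).symm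
    rw [h7] at h6
    rcases smul_eq_zero.1 h6 with h8 | h8
    · exact hN (by exact_mod_cast h8)
    · apply hv
      have h9 : w = 0 := hι (by rw [h8, map_zero])
      rw [h9]
      exact map_zero e.toLinearEquiv
  have hcard : Nat.card V ≤ m ^ 2 := by
    have h1 := card_le_mul_sq D.hyp τ hτ (z := z0) ⟨a0, rfl⟩ hτz
    have h2 : Nat.card (D.Zg.subgroupOf D.Qg) = Nat.card A := by
      rw [Nat.card_congr (Subgroup.subgroupOfEquivOfLe (fun g hg => by
        obtain ⟨a, rfl⟩ := hg
        exact D.z_mem_Qg a)).toEquiv, D.card_Zg]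
    rw [h2] at h1
    have h3 : Nat.card P = Nat.card V * Nat.card A := D.card_Qg
    rw [h3, mul_comm] at h1
    exact Nat.le_of_mul_le_mul_left h1 Nat.card_pos
  refine ⟨m, hcard, ?_⟩
  -- the scalars
  have hsc : ∀ a : A, ∃ c : ℂ, ∀ v : σ.toSubmodule, ρ (D.z a) (ι v) = c • ι v := by
    intro a
    let za : P := ⟨D.z a, D.z_mem_Qg a⟩
    have hzac : ∀ g : P, g * za = za * g := fun g => Subtype.ext (D.zQ_comm g.2 a)
    obtain ⟨c, hc⟩ := Cfsg.Agent.Characters.CentralCharacter.exists_scalar_of_commute τ (τ za) (by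
      intro g v
      rw [← Module.End.mul_apply, ← map_mul, ← hzac g, map_mul, Module.End.mul_apply])
    refine ⟨c, fun v => ?_⟩
    have h1 : e (σ.toRepresentation za v) = e (c • v) := by
      rw [hcomm, hc]
      exact (map_smul e.toLinearEquiv c v).symm
    have h2 : σ.toRepresentation za v = c • v := e.toLinearEquiv.injective h1
    have h3 := hιg za v
    rw [h2, map_smul] at h3
    exact h3.symm
  choose lam hlam using hsc
  obtain ⟨v0, hv0⟩ : ∃ v : σ.toSubmodule, v ≠ 0 := by
    obtain ⟨v, hv⟩ := exists_ne (0 : Fin m → ℂ)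
    obtain ⟨w, rfl⟩ := e.toLinearEquiv.surjective v
    exact ⟨w, fun h => hv (by rw [h]; exact e.toLinearEquiv.map_zero)⟩
  have hιv0 : ι v0 ≠ 0 := fun h => hv0 (hι (by rw [h, map_zero]))
  have hadd : ∀ a b, lam (a + b) = lam a * lam b := by
    intro a b
    have h1 := hlam (a + b) v0
    rw [D.z_add, map_mul, Module.End.mul_apply, hlam b v0, map_smul, hlam a v0, smul_smul] at h1
    have h2 := smul_left_injective ℂ hιv0 h1
    rw [← h2, mul_comm]
  have hl0 : lam a0 ≠ 1 := by
    intro h1
    apply hτz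
    apply LinearMap.ext
    intro v
    obtain ⟨w, rfl⟩ := e.toLinearEquiv.surjective v
    have h2 : σ.toRepresentation z0 w = w := by
      apply hι
      rw [hιg]
      have h3 := hlam a0 w
      rw [h1, one_smul] at h3
      exact h3
    have h3 := hcomm z0 w
    rw [h2] at h3
    exact h3.symm
  have hlz : lam 0 = 1 := by
    have h1 := hlam 0 v0
    rw [D.z_zero, map_one, Module.End.one_apply] at h1
    have h2 : (1 : ℂ) • ι v0 = lam 0 • ι v0 := by rw [one_smul]; exact h1
    exact (smul_left_injective ℂ hιv0 h2).symm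
  have hne0 : ∀ a, lam a ≠ 0 := by
    intro a h1
    have h2 := hadd a (-a)
    rw [add_neg_cancel, hlz, h1, zero_mul] at h2
    exact one_ne_zero h2
  obtain ⟨a1, a2, ha1, ha2, h12⟩ : ∃ a1 a2 : A, a1 ≠ 0 ∧ a2 ≠ 0 ∧ lam a1 ≠ lam a2 := by
    by_contra hcon
    push Not at hcon
    obtain ⟨b, hb0, hb1⟩ : ∃ b : A, b ≠ 0 ∧ b ≠ -a0 := by
      by_contra hcon2
      push Not at hcon2
      have h1 : Nat.card A ≤ 2 := by
        haveI : Fintype A := Fintype.ofFinite A
        rw [Nat.card_eq_fintype_card, ← Finset.card_univ]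
        calc (Finset.univ : Finset A).card ≤ ({0, -a0} : Finset A).card := by
              apply Finset.card_le_card
              intro b _
              by_cases hb : b = 0
              · rw [hb]; simp
              · rw [hcon2 b hb]; simp
          _ ≤ 2 := Finset.card_le_two
      omega
    have hs0 : a0 + b ≠ 0 := fun h => hb1 (by rw [eq_neg_iff_add_eq_zero, add_comm]; exact h)
    have h1 := hadd a0 b
    rw [hcon (a0 + b) a0 hs0 ha0, hcon b a0 hb0 ha0] at h1
    exact hl0 (mul_left_cancel₀ (hne0 a0) (by rw [← h1, mul_one]))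
  obtain ⟨g, hg⟩ := isConj_iff.1 (hconj a1 a2 ha1 ha2)
  let W : Submodule ℂ (Fin d → ℂ) := LinearMap.range ι
  let W' : Submodule ℂ (Fin d → ℂ) := W.map (ρ g)
  have hginj : Function.Injective (ρ g) := by
    intro x y hxy
    have h1 := congrArg (ρ g⁻¹) hxy
    rwa [← Module.End.mul_apply, ← Module.End.mul_apply, ← map_mul, inv_mul_cancel, map_one] at h1
  have hWm : Module.finrank ℂ W = m := by
    rw [LinearMap.finrank_range_of_inj hι, e.toLinearEquiv.finrank_eq]
    simp
  have hW'm : Module.finrank ℂ W' = m := by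
    rw [← (Submodule.equivMapOfInjective (ρ g) hginj W).finrank_eq, hWm]
  have hinf : W ⊓ W' = ⊥ := by
    rw [eq_bot_iff]
    rintro _ ⟨⟨v, rfl⟩, ⟨_, ⟨w, rfl⟩, hw⟩⟩
    rw [Submodule.mem_bot]
    by_contra hv
    apply h12
    have h1 := hlam a2 v
    have h2 : ρ (D.z a2) (ι v) = lam a1 • ι v := by
      rw [← hw, ← map_smul, ← hlam a1 w, ← Module.End.mul_apply, ← map_mul, ← Module.End.mul_apply, ← map_mul, ← hg]
      congr 2
      group
    rw [h2] at h1
    exact smul_left_injective ℂ hv h1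
  have h1 := Submodule.finrank_sup_add_finrank_inf_eq W W'
  rw [hinf, finrank_bot, hWm, hW'm] at h1
  have h2 := Submodule.finrank_le (W ⊔ W')
  have h3 : Module.finrank ℂ (Fin d → ℂ) = d := by simp
  rw [h3] at h2
  omega

end Main

end Cfsg.Agent.H966.Fpf.HeisDeg
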