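import Mathlib
import Cfsg.Agent.H966.Fpf.F4Deg
import Cfsg.Agent.H966.Fpf.NonCyc
import Cfsg.Agent.H80.Fpf.Loc
import Cfsg.Agent.H80.Fpf.Reduce
import Cfsg.Agent.H400.LieLocal
import Cfsg.Agent.H378.RegFin
import Cfsg.Agent.H371.CycEval
import Cfsg.Agent.S1052
import Cfsg.Agent.S1054

/-!
# The row of `F₄(q)`
-/

set_option autoImplicit false
set_option linter.unusedSectionVars false
set_option linter.style.haveILetI false

namespace Cfsg.Agent.H966.Fpf.RowF4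

open CoxeterSystem Subgroup Cfsg Cfsg.Lie Cfsg.Lie.ChevalleyDatum
open Cfsg.Agent.ChevalleyStructure Cfsg.Agent.ChevalleyStructure.Elts Cfsg.Agent.ChevalleyStructure.CoxeterGeom
  Cfsg.Agent.ChevalleyStructure.CoxeterGeomTypes Cfsg.Agent.ChevalleyStructure.NPerm
open Cfsg.Agent.Tits.Roots Cfsg.Agent.Tits.Core Cfsg.Agent.Nodes.Reps Cfsg.Agent.Nodes.BNOf
  Cfsg.Agent.Nodes.RGDChev Cfsg.Agent.Nodes.Bruhat
open Cfsg.Agent.BpExc.FamInst Cfsg.Agent.BpExc.FamExt Cfsg.Agent.BpExc.FamUntw Cfsg.Agent.BpExc.FamField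
  Cfsg.Agent.BpExc.TowChev Cfsg.Agent.BpExc.RowsUntw Cfsg.Agent.H378.TorDual Cfsg.Agent.H378.AdjTab
open Cfsg.Agent.H493.PGTorus Cfsg.Agent.H129.WData Cfsg.Agent.H80.Fpf
open Cfsg.Agent.H378.ExcAdj Cfsg.Agent.H378.CycTab
open Cfsg.Agent.H934.HeisChev Cfsg.Agent.H934.HeisSq

universe u v w

/-! ### tori -/

/-- linear forms modulo `r` -/
def fn {l : ℕ} {r : ℕ} (c : Fin l → ZMod r) : (Fin l → ℤ) →+ ZMod r where
  toFun x := ∑ j, c j * (x j : ZMod r)
  map_zero' := by simp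
  map_add' x y := by
    rw [← Finset.sum_add_distrib]
    refine Finset.sum_congr rfl fun j _ => ?_
    rw [Pi.add_apply, Int.cast_add, mul_add]

theorem fn_apply {l : ℕ} {r : ℕ} (c : Fin l → ZMod r) (x : Fin l → ℤ) : fn c x = ∑ j, c j * (x j : ZMod r) := rfl

section

variable {D : ChevalleyDatum} {l : ℕ} {M : CoxeterMatrix (Fin l)} (hp : IsType D l M)
  {W : Type*} [Group W] [Finite W] (cs : CoxeterSystem M W)

theorem fn_torus {r : ℕ} {w : W} {Th : Mat l} (h : ∀ j, rep cs hp.isCartan w (sr j) = Th j) (c : Fin l → ZMod r)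
    (q : ℕ) (hc : ∀ j, ∑ m, c m * (Th j m : ZMod r) = (q : ZMod r) * c j) (x : Fin l → ℤ) :
    fn c (rep cs hp.isCartan w x - ((q : ℕ) : ℤ) • x) = 0 := by
  rw [map_sub, fn_apply, fn_apply, sub_eq_zero]
  have e1 : ∀ m, c m * ((rep cs hp.isCartan w x m : ℤ) : ZMod r) = ∑ j, (x j : ZMod r) * (c m * (Th j m : ZMod r)) := by
    intro m
    rw [rep_apply_eq hp cs h, Int.cast_sum, Finset.mul_sum]
    refine Finset.sum_congr rfl fun j _ => ?_
    push_cast
    ring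
  rw [Finset.sum_congr rfl fun m _ => e1 m, Finset.sum_comm]
  refine Finset.sum_congr rfl fun j _ => ?_
  rw [← Finset.mul_sum, hc j, Pi.smul_apply, smul_eq_mul]
  push_cast
  ring

end

/-! ### the data -/

/-- the Cartan matrix -/
abbrev Am : Mat 4 := Cfsg.Agent.H378.AdjF4.Am

/-- two commuting reflections -/
def L2 : List (Fin 4 × Mat 4) := [
    (0, ![![-1, 0, 0, 0], ![1, 1, 1, 0], ![0, 0, -1, 0], ![0, 0, 1, 1]]),
    (2, ![![1, 0, 0, 0], ![0, 1, 1, 0], ![0, 0, -1, 0], ![0, 0, 1, 1]])]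

theorem chain2 : ChainOK Am L2 := by decide +kernel

/-- a square root of `-1` -/
def L4 : List (Fin 4 × Mat 4) := [
    (3, ![![-1, -2, -1, -1], ![0, -1, -1, 0], ![0, 2, 1, 0], ![2, 2, 2, 1]]),
    (2, ![![-1, -2, -1, 0], ![0, -1, -1, -1], ![0, 2, 1, 1], ![2, 2, 2, 1]]),
    (1, ![![-1, -2, -1, 0], ![0, -1, -1, -1], ![0, 2, 2, 1], ![2, 2, 1, 1]]),
    (2, ![![-1, -1, -1, 0], ![0, -1, -1, -1], ![0, 2, 2, 1], ![2, 2, 1, 1]]),
    (3, ![![-1, -1, 0, 0], ![0, -1, -1, -1], ![0, 2, 1, 1], ![2, 2, 2, 1]]),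
    (2, ![![-1, -1, 0, 0], ![0, -1, -1, 0], ![0, 2, 1, 0], ![2, 2, 2, 1]]),
    (0, ![![-1, -1, -1, 0], ![0, -1, 0, 0], ![0, 2, 1, 0], ![2, 2, 1, 1]]),
    (1, ![![0, -1, -1, 0], ![-1, -1, 0, 0], ![2, 2, 1, 0], ![0, 2, 1, 1]]),
    (2, ![![0, -1, -1, 0], ![-1, 0, 0, 0], ![2, 2, 1, 0], ![0, 0, 1, 1]]),
    (0, ![![0, -1, 0, 0], ![-1, 0, 0, 0], ![2, 2, 1, 0], ![0, 0, 0, 1]]),
    (1, ![![-1, -1, 0, 0], ![1, 0, 0, 0], ![0, 2, 1, 0], ![0, 0, 0, 1]]),
    (0, ![![-1, 0, 0, 0], ![1, 1, 0, 0], ![0, 0, 1, 0], ![0, 0, 0, 1]])]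

theorem chain4 : ChainOK Am L4 := by decide +kernel

section Row

variable {F : Type} [Field F] [Fintype F]

theorem not_may_one {r : ℕ} (hr : r.Prime) (hr2 : r ≠ 2) (h : od (Nat.card F) r = 1) :
    ¬ May r ↥(chevF4.group F) := by
  let cs : CoxeterSystem CoxeterMatrix.F₄ CoxeterMatrix.F₄.Group := CoxeterMatrix.F₄.toCoxeterSystem
  haveI := finite_W f4T cs
  haveI : Fact r.Prime := ⟨hr⟩
  have hq : ((Nat.card F : ℕ) : ZMod r) = 1 := orderOf_eq_one_iff.1 h
  have key : ∀ c : Fin 4 → ZMod r, ∀ x, fn c (rep cs f4T.isCartan (1 : CoxeterMatrix.F₄.Group) x -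
      ((Nat.card F : ℕ) : ℤ) • x) = 0 := by
    intro c x
    have h1 : rep cs f4T.isCartan (1 : CoxeterMatrix.F₄.Group) x = x := by rw [map_one, Module.End.one_apply]
    rw [h1, map_sub, map_zsmul, sub_eq_zero, zsmul_eq_mul]
    push_cast
    rw [hq, one_mul]
  refine NonCyc.not_may_torus f4T cs inv_F4 1 hr hr2 (fn (Pi.single 0 1)) (fn (Pi.single 1 1)) (key _) (key _)
    (a := ![1, 0, 0, 0]) (b := ![0, 1, 0, 0]) ?_ ?_ ?_ <;>
  · simp [fn_apply, Pi.single_apply]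

theorem not_may_two {r : ℕ} (hr : r.Prime) (hr2 : r ≠ 2) (h : od (Nat.card F) r = 2) :
    ¬ May r ↥(chevF4.group F) := by
  let cs : CoxeterSystem CoxeterMatrix.F₄ CoxeterMatrix.F₄.Group := CoxeterMatrix.F₄.toCoxeterSystem
  haveI := finite_W f4T cs
  haveI : Fact r.Prime := ⟨hr⟩
  have hq : ((Nat.card F : ℕ) : ZMod r) = -1 := by
    have h1 := dvd2 hr h
    rw [pv2, ← ZMod.intCast_zmod_eq_zero_iff_dvd] at h1
    push_cast at h1
    exact eq_neg_of_add_eq_zero_left h1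
  have h20 : (2 : ZMod r) ≠ 0 := by
    intro h1
    have h2 : ((2 : ℕ) : ZMod r) = 0 := h1
    rw [ZMod.natCast_eq_zero_iff] at h2
    exact hr2 ((Nat.prime_dvd_prime_iff_eq hr Nat.prime_two).1 h2)
  have h10 : (1 : ZMod r) ≠ 0 := one_ne_zero
  refine NonCyc.not_may_torus f4T cs inv_F4 (cs.wordProd (L2.map Prod.fst)) hr hr2 (fn ![2, -1, 0, 0])
    (fn ![0, -1, 2, -1]) (fn_torus f4T cs (chain_rep f4T cs Cfsg.Agent.H378.AdjF4.hA chain2) _ _ ?_)
    (fn_torus f4T cs (chain_rep f4T cs Cfsg.Agent.H378.AdjF4.hA chain2) _ _ ?_)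
    (a := ![1, 0, 0, 0]) (b := ![0, 0, 0, 1]) ?_ ?_ ?_
  · rw [hq]
    intro j
    fin_cases j <;> simp [hd, L2, Fin.sum_univ_succ] <;> ring
  · rw [hq]
    intro j
    fin_cases j <;> simp [hd, L2, Fin.sum_univ_succ] <;> ring
  · simpa [fn_apply, Fin.sum_univ_succ] using h20
  · simp [fn_apply, Fin.sum_univ_succ]
  · simp [fn_apply, Fin.sum_univ_succ]

theorem not_may_four {r : ℕ} (hr : r.Prime) (hr2 : r ≠ 2) (h : od (Nat.card F) r = 4) :
    ¬ May r ↥(chevF4.group F) := by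
  let cs : CoxeterSystem CoxeterMatrix.F₄ CoxeterMatrix.F₄.Group := CoxeterMatrix.F₄.toCoxeterSystem
  haveI := finite_W f4T cs
  haveI : Fact r.Prime := ⟨hr⟩
  have hq : ((Nat.card F : ℕ) : ZMod r) ^ 2 + 1 = 0 := by
    have h1 := dvd4 hr h
    rw [pv4, ← ZMod.intCast_zmod_eq_zero_iff_dvd] at h1
    push_cast at h1
    exact h1
  have h10 : (1 : ZMod r) ≠ 0 := one_ne_zero
  obtain ⟨z, hz⟩ : ∃ z : ZMod r, z = ((Nat.card F : ℕ) : ZMod r) := ⟨_, rfl⟩
  rw [← hz] at hq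
  refine NonCyc.not_may_torus f4T cs inv_F4 (cs.wordProd (L4.map Prod.fst)) hr hr2 (fn ![-2 * z, -1, 1 + z, -1 + z])
    (fn ![z, 1, -1 - z, 0]) (fn_torus f4T cs (chain_rep f4T cs Cfsg.Agent.H378.AdjF4.hA chain4) _ _ ?_)
    (fn_torus f4T cs (chain_rep f4T cs Cfsg.Agent.H378.AdjF4.hA chain4) _ _ ?_)
    (a := ![-1, -1, -1, -1]) (b := ![-1, 0, -1, -1]) ?_ ?_ ?_
  · rw [← hz]
    intro j
    fin_cases j <;> simp [hd, L4, Fin.sum_univ_succ] <;>
    first
      | ring1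
      | linear_combination 2 * hq
      | linear_combination (-1 : ZMod r) * hq
  · rw [← hz]
    intro j
    fin_cases j <;> simp [hd, L4, Fin.sum_univ_succ] <;>
    first
      | ring1
      | linear_combination 2 * hq
      | linear_combination (-1 : ZMod r) * hq
      | linear_combination hq
  · have h1 : fn ![-2 * z, -1, 1 + z, -1 + z] ![-1, -1, -1, -1] = 1 := by
      simp [fn_apply, Fin.sum_univ_succ]; ring
    rw [h1]
    exact h10
  · simp [fn_apply, Fin.sum_univ_succ]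
  · have h1 : fn ![z, 1, -1 - z, 0] ![-1, 0, -1, -1] = 1 := by
      simp [fn_apply, Fin.sum_univ_succ]
    rw [h1]
    exact h10

/-- The orders 3 and 6: adjacency with the characteristic. -/
theorem adj_char {p : ℕ} [Fact p.Prime] [CharP F p] {r : ℕ} (hr : r.Prime)
    (h : od (Nat.card F) r = 3 ∨ od (Nat.card F) r = 6) : Cfsg.Agent.H94.PG.Adj ↥(chevF4.group F) r p := by
  let cs : CoxeterSystem CoxeterMatrix.F₄ CoxeterMatrix.F₄.Group := CoxeterMatrix.F₄.toCoxeterSystem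
  haveI := finite_W f4T cs
  have hq1 : 1 ≤ Nat.card F := Nat.card_pos
  have hn1 : ¬ r ∣ Nat.card F - 1 := by
    intro h4
    have h5 : od (Nat.card F) r ∣ 1 := od_dvd hq1 (by rw [pow_one]; exact h4)
    rcases h with h3 | h3 <;> rw [h3] at h5 <;> omega
  have hq0 : ¬ r ∣ Nat.card F := by
    rcases h with h3 | h3 <;> exact Cfsg.Agent.H378.RegFin.not_dvd_q hr h3 (by norm_num)
  have hrp : r ≠ p := by
    rintro rfl
    obtain ⟨n, hp, hn⟩ := FiniteField.card F r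
    apply hq0
    rw [Nat.card_eq_fintype_card, hn]
    exact dvd_pow_self _ n.ne_zero
  rcases h with h3 | h3
  · obtain ⟨x, u, n, hx, hu, -, hc, -⟩ := exists_comm_row f4T cs inv_F4 one_ne_zero Cfsg.Agent.H378.AdjF4.hA
      Cfsg.Agent.H378.AdjF4.lt_nroots Cfsg.Agent.H378.AdjF4.row3 hr hn1 (dvd3 hr h3) (p := p)
    exact ⟨hr, Fact.out, hrp, x, u, hx, hu, hc⟩
  · obtain ⟨x, u, n, hx, hu, -, hc, -⟩ := exists_comm_row f4T cs inv_F4 one_ne_zero Cfsg.Agent.H378.AdjF4.hA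
      Cfsg.Agent.H378.AdjF4.lt_nroots Cfsg.Agent.H378.AdjF4.row6 hr hn1 (dvd6 hr h3) (p := p)
    exact ⟨hr, Fact.out, hrp, x, u, hx, hu, hc⟩

theorem locChar {p : ℕ} [Fact p.Prime] [CharP F p] : Cfsg.Agent.BpLieP.Big.LocChar p ↥(chevF4.group F) := by
  haveI : IsSimpleGroup ↥(chevF4.group F) := (Cfsg.Agent.S1054.result chevF4 (by simp)).1
  haveI : Finite ↥(chevF4.group F) := inferInstance
  apply Cfsg.Agent.H400.LieLocal.locChar_of_filt
  have h : Cfsg.IsExceptionalChevChar p ↥(chevF4.group F) :=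
    ⟨F, inferInstance, inferInstance, inferInstance, Or.inr (Or.inl ⟨MulEquiv.refl _⟩)⟩
  exact Cfsg.Agent.KFacts.RgdLieCharP.hasFilt_of_lie (Or.inr (Or.inr (Or.inr (Or.inr (Or.inr (Or.inr (Or.inl h)))))))

theorem not_may_three {p : ℕ} [Fact p.Prime] [CharP F p] {r : ℕ} (hr : r.Prime) (hr2 : r ≠ 2)
    (h : od (Nat.card F) r = 3 ∨ od (Nat.card F) r = 6) : ¬ May r ↥(chevF4.group F) := by
  haveI : IsSimpleGroup ↥(chevF4.group F) := (Cfsg.Agent.S1054.result chevF4 (by simp)).1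
  haveI : Finite ↥(chevF4.group F) := inferInstance
  refine not_may_of_adj hr2 ?_ locChar (adj_char hr h)
  by_cases hp2 : p = 2
  · subst hp2
    apply good_two_of_dvd Nat.prime_three (by norm_num)
    haveI : Fact r.Prime := ⟨hr⟩
    have h1 : od (Nat.card F) r ∣ r - 1 := by
      rcases h with h3 | h3 <;> exact (by
        have h4 := Cfsg.Agent.H378.RegFin.not_dvd_q hr h3 (by norm_num)
        have h5 : ((Nat.card F : ℕ) : ZMod r) ≠ 0 := fun h6 => h4 ((ZMod.natCast_eq_zero_iff _ _).1 h6)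
        exact ZMod.orderOf_dvd_card_sub_one h5)
    rcases h with h3 | h3 <;> rw [h3] at h1
    · exact h1
    · exact (by norm_num : 3 ∣ 6).trans h1
  · exact good_of_odd Fact.out hp2 hr hr2

theorem not_may_char {p : ℕ} [Fact p.Prime] [CharP F p] (hp2 : p ≠ 2) : ¬ May p ↥(chevF4.group F) := by
  haveI : Finite ↥(chevF4.group F) := inferInstance
  have hD : InList chevF4 := Cfsg.Agent.H934.HeisF4G2.hF4
  let T := Cfsg.Agent.H934.HeisF4Even.tabL
  have ok : T.Ok chevF4 := Cfsg.Agent.H934.HeisF4Even.tabL_ok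
  have he : ∀ i, (T.e i : F) ≠ 0 := by
    intro i
    have h : ∀ i, T.e i = 1 ∨ T.e i = -1 := by decide
    rcases h i with h | h <;> rw [h] <;> simp
  let R := T.rs hD ok F he
  have hord : ∀ r, r < chevF4.nroots → orderOf (xe hD r (1 : F)) = p := by
    intro r hr
    apply orderOf_eq_prime
    · have key : ∀ j : ℕ, xe hD r (1 : F) ^ j = xe hD r (j : F) := by
        intro j
        induction j with
        | zero => rw [pow_zero, Nat.cast_zero, xe_zero]
        | succ j ih => rw [pow_succ, ih, ← xe_add, Nat.cast_succ]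
      rw [key, CharP.cast_eq_zero, xe_zero]
    · intro h
      exact one_ne_zero (xe_eq_one hD hr h)
  refine not_may_of_comm Fact.out hp2 (a := xe hD (T.S 0) (1 : F)) (b := xe hD T.th (1 : F)) (R.x_z 0 1 1)
    (hord _ (ok.S_lt 0)) (hord _ ok.th_lt) ?_
  rintro ⟨k, hk⟩
  have key : ∀ j : ℤ, xe hD (T.S 0) (1 : F) ^ j = R.X (Pi.single 0 (j : F)) := by
    intro j
    rw [R.X_single]
    have h1 : ∀ j : ℕ, xe hD (T.S 0) (1 : F) ^ j = xe hD (T.S 0) (j : F) := by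
      intro j
      induction j with
      | zero => rw [pow_zero, Nat.cast_zero, xe_zero]
      | succ j ih => rw [pow_succ, ih, ← xe_add, Nat.cast_succ]
    obtain ⟨n, rfl | rfl⟩ := j.eq_nat_or_neg
    · rw [zpow_natCast, h1]
      simp
      rfl
    · rw [zpow_neg, zpow_natCast, h1, ← xe_neg]
      simp
      rfl
  have hk' : xe hD (T.S 0) (1 : F) ^ k = xe hD T.th (1 : F) := hk
  rw [key] at hk'
  have h1 : R.toD0.X (Pi.single 0 (k : F)) * R.toD0.z 0 = R.toD0.X 0 * R.toD0.z 1 := by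
    have e0 : R.toD0.z 0 = 1 := xe_zero hD _
    have e1 : R.toD0.X 0 = 1 := R.X_zero
    rw [e0, e1, mul_one, one_mul]
    exact hk'
  exact zero_ne_one (R.toD0.eq_of_mul_eq h1).2

theorem minDeg (h3 : 3 ≤ Fintype.card F) : MinDeg ↥(chevF4.group F) (Fintype.card F ^ 4 + 1) := by
  haveI : IsSimpleGroup ↥(chevF4.group F) := (Cfsg.Agent.S1054.result chevF4 (by simp)).1
  refine F4Deg.minDeg_chev Cfsg.Agent.H934.HeisF4G2.hF4 Cfsg.Agent.H934.HeisF4Even.tabL
    Cfsg.Agent.H934.HeisF4Even.tabL_ok ?_ inferInstance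
    (Cfsg.Agent.S1052.result chevF4 (by simp) fun _ => ?_) ?_ h3 ?_
  · intro i
    have h : ∀ i, Cfsg.Agent.H934.HeisF4Even.tabL.e i = 1 ∨ Cfsg.Agent.H934.HeisF4Even.tabL.e i = -1 := by decide
    rcases h i with h | h <;> rw [h] <;> simp
  · by_contra hcon
    push Not at hcon
    classical
    have h1 : (Finset.univ : Finset F) ⊆ {0, 1} := by
      intro a _
      by_cases ha : a = 0
      · simp [ha]
      · simp [hcon a ha]
    have h2 := Finset.card_le_card h1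
    have h3 : ({0, 1} : Finset F).card ≤ 2 := Finset.card_le_two
    rw [Finset.card_univ] at h2
    omega
  · exact multDvd_of_cyclic one_ne_zero (Cfsg.Agent.S2103.result h3)
  · intro m hm
    have h1 : Fintype.card F ^ 4 ≤ m := by
      by_contra hlt
      push Not at hlt
      have h2 : m ^ 2 < (Fintype.card F ^ 4) ^ 2 := Nat.pow_lt_pow_left hlt two_ne_zero
      rw [← pow_mul] at h2
      exact absurd hm (not_le.2 h2)
    have h2 : 1 ≤ Fintype.card F ^ 4 := Nat.one_le_pow _ _ (by omega)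
    omega

/-- The largest of at least two primes dividing `N`. -/
theorem not_may_num {r t N : ℕ} (hr : r.Prime) (hr2 : r ≠ 2) (ht : t.Prime) (hrt : r < t) (hrN : r ∣ N) (htN : t ∣ N)
    (hN0 : 0 < N) (hN : N ≤ Fintype.card F ^ 4 + 1) (h9 : 9 ≤ r)
    (hd : r ∣ Nat.card ↥(chevF4.group F))
    (hc : ∀ x : ↥(chevF4.group F), orderOf x = r → Nat.card ↥(Subgroup.centralizer ({x} : Set ↥(chevF4.group F))) ∣ N) :
    ¬ May r ↥(chevF4.group F) := by
  intro h
  haveI : Finite ↥(chevF4.group F) := inferInstance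
  haveI : Fact r.Prime := ⟨hr⟩
  have h1 : r * t ∣ N := Nat.Coprime.mul_dvd_of_dvd_of_dvd ((Nat.coprime_primes hr ht).2 hrt.ne) hrN htN
  have h2 : r * r < N := lt_of_lt_of_le (Nat.mul_lt_mul_of_pos_left hrt hr.pos) (Nat.le_of_dvd hN0 h1)
  have h3 : 3 ≤ Fintype.card F := by
    by_contra hlt
    push Not at hlt
    have h4 : Fintype.card F ^ 4 ≤ 2 ^ 4 := Nat.pow_le_pow_left (by omega) 4
    have h5 : 9 * 9 ≤ r * r := Nat.mul_le_mul h9 h9
    omega
  obtain ⟨x, hx⟩ := exists_prime_orderOf_dvd_card' (G := ↥(chevF4.group F)) r hd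
  have h4 := h.lt_of_minDeg' hr hr2 (minDeg h3) hx
  have h5 : Nat.card ↥(Subgroup.centralizer ({x} : Set ↥(chevF4.group F))) ≤ N := Nat.le_of_dvd hN0 (hc x hx)
  have h6 : (r - 1) ^ 2 ≤ N := by
    have h7 : (r - 1) ^ 2 ≤ r * r := by rw [sq]; exact Nat.mul_le_mul (Nat.sub_le _ _) (Nat.sub_le _ _)
    omega
  have h7 : (Fintype.card F ^ 4 + 1) ^ 2 < N * N := lt_of_lt_of_le h4 (Nat.mul_le_mul h6 h5)
  have h8 : N * N ≤ (Fintype.card F ^ 4 + 1) ^ 2 := by rw [sq]; exact Nat.mul_le_mul hN hN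
  omega

end Row

/-- **The row of `F₄(q)`.** -/
theorem row_F4 {F : Type} [Field F] [Fintype F] : Row ↥(Cfsg.Lie.chevF4.group F) := by
  classical
  obtain ⟨p, hp⟩ := CharP.exists F
  haveI : Fact p.Prime := ⟨CharP.char_is_prime F p⟩
  obtain ⟨n, -, hn⟩ := FiniteField.card F p
  have hq : Nat.card F = Fintype.card F := Nat.card_eq_fintype_card
  let P8 : ℕ → Prop := fun r => r.Prime ∧ od (Nat.card F) r = 8
  let P12 : ℕ → Prop := fun r => r.Prime ∧ od (Nat.card F) r = 12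
  let a : ℕ := Nat.findGreatest P8 (Fintype.card F ^ 4 + 1)
  let b : ℕ := Nat.findGreatest P12 (Fintype.card F ^ 4 - Fintype.card F ^ 2 + 1)
  have hle : Fintype.card F ^ 2 ≤ Fintype.card F ^ 4 := Nat.pow_le_pow_right Fintype.card_pos (by norm_num)
  have hd8 : ∀ r, P8 r → r ∣ Fintype.card F ^ 4 + 1 := by
    intro r h
    have h1 := dvd8 h.1 h.2
    rw [pv8, hq] at h1
    exact_mod_cast h1
  have hd12 : ∀ r, P12 r → r ∣ Fintype.card F ^ 4 - Fintype.card F ^ 2 + 1 := by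
    intro r h
    have h1 := dvd12 h.1 h.2
    rw [pv12, hq] at h1
    zify [hle]
    exact h1
  refine row_of a b fun r hr hr2 hd hra hrb => ?_
  rcases od_F4 hr hd with h | h | h | h | h | h | h | h
  · have hrp : r = p := by
      rw [hq, hn] at h
      exact (Nat.prime_dvd_prime_iff_eq hr Fact.out).1 (hr.dvd_of_dvd_pow h)
    subst hrp
    exact not_may_char hr2
  · exact not_may_one hr hr2 h
  · exact not_may_two hr hr2 h
  · exact not_may_three (p := p) hr hr2 (Or.inl h)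
  · exact not_may_four hr hr2 h
  · exact not_may_three (p := p) hr hr2 (Or.inr h)
  · have hP : P8 r := ⟨hr, h⟩
    have h1 := hd8 r hP
    have h2 : r ≤ Fintype.card F ^ 4 + 1 := Nat.le_of_dvd (Nat.succ_pos _) h1
    have h3 : r ≤ a := Nat.le_findGreatest h2 hP
    have h4 : P8 a := Nat.findGreatest_spec (P := P8) h2 hP
    have h9 : 9 ≤ r := by
      haveI : Fact r.Prime := ⟨hr⟩
      have h5 := Cfsg.Agent.H378.RegFin.not_dvd_q hr h (by norm_num)
      have h6 : ((Nat.card F : ℕ) : ZMod r) ≠ 0 := fun h6 => h5 ((ZMod.natCast_eq_zero_iff _ _).1 h6)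
      have h7 : orderOf ((Nat.card F : ℕ) : ZMod r) ∣ r - 1 := ZMod.orderOf_dvd_card_sub_one h6
      have h8 : od (Nat.card F) r ∣ r - 1 := h7
      rw [h] at h8
      have := Nat.le_of_dvd (by have := hr.two_le; omega) h8
      omega
    refine not_may_num hr hr2 h4.1 (lt_of_le_of_ne h3 hra) h1 (hd8 a h4) (Nat.succ_pos _) le_rfl h9 hd fun x hx => ?_
    have h5 := (Cfsg.Agent.H378.RegFin.cent_od f4T inv_F4 one_ne_zero hr hx h (by decide) (by norm_num)).2
    have h6 : (Polynomial.cyclotomic 8 ℤ).eval ((Nat.card F : ℕ) : ℤ) = ((Fintype.card F ^ 4 + 1 : ℕ) : ℤ) := by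
      have := Cfsg.Agent.H371.CycEval.ev8 ((Nat.card F : ℕ) : ℤ)
      rw [hq] at this ⊢
      push_cast
      exact this
    rw [h6, Int.natAbs_natCast] at h5
    exact h5
  · have hP : P12 r := ⟨hr, h⟩
    have h1 := hd12 r hP
    have h2 : r ≤ Fintype.card F ^ 4 - Fintype.card F ^ 2 + 1 := Nat.le_of_dvd (Nat.succ_pos _) h1
    have h3 : r ≤ b := Nat.le_findGreatest h2 hP
    have h4 : P12 b := Nat.findGreatest_spec (P := P12) h2 hP
    have h9 : 9 ≤ r := by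
      haveI : Fact r.Prime := ⟨hr⟩
      have h5 := Cfsg.Agent.H378.RegFin.not_dvd_q hr h (by norm_num)
      have h6 : ((Nat.card F : ℕ) : ZMod r) ≠ 0 := fun h6 => h5 ((ZMod.natCast_eq_zero_iff _ _).1 h6)
      have h7 : orderOf ((Nat.card F : ℕ) : ZMod r) ∣ r - 1 := ZMod.orderOf_dvd_card_sub_one h6
      have h8 : od (Nat.card F) r ∣ r - 1 := h7
      rw [h] at h8
      have := Nat.le_of_dvd (by have := hr.two_le; omega) h8
      omega
    refine not_may_num hr hr2 h4.1 (lt_of_le_of_ne h3 hrb) h1 (hd12 b h4) (Nat.succ_pos _) (by omega) h9 hd fun x hx => ?_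
    have h5 := (Cfsg.Agent.H378.RegFin.cent_od f4T inv_F4 one_ne_zero hr hx h (by decide) (by norm_num)).2
    have h6 : (Polynomial.cyclotomic 12 ℤ).eval ((Nat.card F : ℕ) : ℤ) =
        ((Fintype.card F ^ 4 - Fintype.card F ^ 2 + 1 : ℕ) : ℤ) := by
      have := Cfsg.Agent.H371.CycEval.ev12 ((Nat.card F : ℕ) : ℤ)
      rw [hq] at this ⊢
      push_cast [hle]
      exact this
    rw [h6, Int.natAbs_natCast] at h5
    exact h5

end Cfsg.Agent.H966.Fpf.RowF4
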